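import Mathlib.GroupTheory.Index
import Mathlib.GroupTheory.Commutator.Basic
import Mathlib.GroupTheory.Abelianization.Defs
import Mathlib.GroupTheory.QuotientGroup.Basic
import Mathlib.GroupTheory.PGroup
import Mathlib.GroupTheory.Nilpotent

set_option autoImplicit false

namespace Cfsg.Agent.Lib.BlockAux

variable {P : Type*} [Group P]

/-- Commutation with a fixed element, as a homomorphism on an abelian normal subgroup. -/
def commHom (A : Subgroup P) [hA : A.Normal] (hab : ∀ a ∈ A, ∀ b ∈ A, a * b = b * a) (t : P) :
    A →* P where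
  toFun a := t * a * t⁻¹ * (a : P)⁻¹
  map_one' := by simp
  map_mul' a b := by
    have h1 : t * (b : P) * t⁻¹ * (b : P)⁻¹ ∈ A :=
      A.mul_mem (hA.conj_mem _ b.2 t) (A.inv_mem b.2)
    have h2 := hab _ (A.inv_mem a.2) _ h1
    calc t * ((a * b : A) : P) * t⁻¹ * ((a * b : A) : P)⁻¹
        = t * a * t⁻¹ * ((t * b * t⁻¹ * (b : P)⁻¹) * (a : P)⁻¹) := by
          simp [mul_assoc]
      _ = t * a * t⁻¹ * ((a : P)⁻¹ * (t * b * t⁻¹ * (b : P)⁻¹)) := by rw [h2]
      _ = _ := by simp [mul_assoc]

theorem commHom_apply (A : Subgroup P) [hA : A.Normal]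
    (hab : ∀ a ∈ A, ∀ b ∈ A, a * b = b * a) (t : P) (a : A) :
    commHom A hab t a = t * a * t⁻¹ * (a : P)⁻¹ := rfl

/-- If `A` is abelian normal of prime index and `t ∉ A`, then `P' = [t, A]`. -/
theorem range_commHom_eq (A : Subgroup P) [hA : A.Normal]
    (hab : ∀ a ∈ A, ∀ b ∈ A, a * b = b * a) (hp : A.index.Prime) (t : P) (ht : t ∉ A) :
    (commHom A hab t).range = commutator P := by
  apply le_antisymm
  · rintro _ ⟨a, rfl⟩
    rw [commHom_apply, commutator_def]
    exact Subgroup.commutator_mem_commutator (Subgroup.mem_top t) (Subgroup.mem_top (a : P))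
  · set R := (commHom A hab t).range with hR
    have hRA : R ≤ A := by
      rintro _ ⟨a, rfl⟩
      exact A.mul_mem (hA.conj_mem _ a.2 t) (A.inv_mem a.2)
    -- the normalizer of `R` is everything
    have hmax : ∀ K : Subgroup P, A ≤ K → t ∈ K → K = ⊤ := by
      intro K hK htK
      rcases hp.eq_one_or_self_of_dvd _ (Subgroup.index_dvd_of_le hK) with h | h
      · exact Subgroup.index_eq_one.mp h
      · exfalso
        haveI : A.FiniteIndex := ⟨hp.ne_zero⟩
        have hlt : A < K := lt_of_le_of_ne hK (fun e => ht (e ▸ htK))
        have := Subgroup.relIndex_mul_index hK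
        rw [h] at this
        have h1 : A.relIndex K = 1 :=
          Nat.eq_of_mul_eq_mul_right hp.pos (this.trans (one_mul _).symm)
        exact hlt.not_ge (Subgroup.relIndex_eq_one.mp h1)
    haveI hRn : R.Normal := by
      rw [← Subgroup.normalizer_eq_top_iff]
      apply hmax
      · intro b hb
        rw [Subgroup.mem_normalizer_iff]
        intro r
        constructor
        · intro hr
          have := hab b hb r (hRA hr)
          simpa [this] using hr
        · intro hr
          have hrA : r ∈ A := by
            simpa [mul_assoc] using hA.conj_mem _ (hRA hr) b⁻¹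
          have := hab b hb r hrA
          simpa [this] using hr
      · have key : ∀ r ∈ R, t * r * t⁻¹ ∈ R := by
          rintro _ ⟨a, rfl⟩
          exact ⟨⟨t * a * t⁻¹, hA.conj_mem _ a.2 t⟩, by simp [commHom_apply, mul_assoc]⟩
        rw [Subgroup.mem_normalizer_iff]
        intro r
        refine ⟨key r, fun hr => ?_⟩
        -- `t ^ p ∈ A` centralizes `R`
        have hrA : r ∈ A := by simpa [mul_assoc] using hA.conj_mem _ (hRA hr) t⁻¹
        have htp : t ^ A.index ∈ A := Subgroup.pow_index_mem A t
        have hit : ∀ k : ℕ, t ^ k * (t * r * t⁻¹) * (t ^ k)⁻¹ ∈ R := by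
          intro k
          induction k with
          | zero => simpa using hr
          | succ k ih =>
            have := key _ ih
            simpa [pow_succ', mul_assoc] using this
        have h := hit (A.index - 1)
        have e : t ^ (A.index - 1) * (t * r * t⁻¹) * (t ^ (A.index - 1))⁻¹
            = t ^ A.index * r * (t ^ A.index)⁻¹ := by
          conv_rhs => rw [← Nat.sub_add_cancel hp.one_le, pow_succ]
          group
        rw [e, hab _ htp _ hrA] at h
        simpa using h
    let q := QuotientGroup.mk' R
    have hz : (Subgroup.center (P ⧸ R)).comap q = ⊤ := by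
      have ha : ∀ a ∈ A, q t * q a = q a * q t := by
        intro a haA
        rw [← map_mul, ← map_mul]
        symm
        refine QuotientGroup.eq.mpr ?_
        refine ⟨⟨t⁻¹ * a * t, by simpa using hA.conj_mem _ haA t⁻¹⟩, ?_⟩
        have h3 := hab a haA (t⁻¹ * a⁻¹ * t) (by simpa using hA.conj_mem _ (A.inv_mem haA) t⁻¹)
        simp only [commHom_apply]
        calc t * (t⁻¹ * a * t) * t⁻¹ * (t⁻¹ * a * t)⁻¹ = a * (t⁻¹ * a⁻¹ * t) := by group
          _ = (t⁻¹ * a⁻¹ * t) * a := h3
          _ = (a * t)⁻¹ * (t * a) := by group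
      have hA' : A ≤ (Subgroup.center (P ⧸ R)).comap q := by
        intro a haA
        have : Subgroup.comap q (Subgroup.centralizer {q a}) = ⊤ := by
          apply hmax
          · intro b hb
            simp only [Subgroup.mem_comap, Subgroup.mem_centralizer_singleton_iff]
            rw [← map_mul, ← map_mul, hab b hb a haA]
          · simp only [Subgroup.mem_comap, Subgroup.mem_centralizer_singleton_iff]
            exact ha a haA
        rw [Subgroup.mem_comap, Subgroup.mem_center_iff]
        intro y
        obtain ⟨y, rfl⟩ := QuotientGroup.mk'_surjective R y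
        have h2 : y ∈ Subgroup.comap q (Subgroup.centralizer {q a}) := by rw [this]; trivial
        simpa [q, Subgroup.mem_centralizer_singleton_iff] using h2
      refine hmax _ hA' ?_
      rw [Subgroup.mem_comap, Subgroup.mem_center_iff]
      intro y
      obtain ⟨y, rfl⟩ := QuotientGroup.mk'_surjective R y
      have : Subgroup.comap q (Subgroup.centralizer {q t}) = ⊤ := by
        apply hmax
        · intro b hb
          simp only [Subgroup.mem_comap, Subgroup.mem_centralizer_singleton_iff]
          exact (ha b hb).symm
        · simp [Subgroup.mem_centralizer_singleton_iff]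
      have h2 : y ∈ Subgroup.comap q (Subgroup.centralizer {q t}) := by rw [this]; trivial
      simpa [q, Subgroup.mem_centralizer_singleton_iff] using h2
    rw [commutator_def, Subgroup.commutator_le]
    intro x _ y _
    rw [← QuotientGroup.ker_mk' R, MonoidHom.mem_ker]
    have hx : q x ∈ Subgroup.center (P ⧸ R) := by
      have : x ∈ (Subgroup.center (P ⧸ R)).comap q := by rw [hz]; trivial
      exact this
    rw [map_commutatorElement, commutatorElement_eq_one_iff_mul_comm]
    exact (Subgroup.mem_center_iff.mp hx _).symm

/-- `|A| = |C_A(t)| · |P'|` for `A` abelian normal of prime index and `t ∉ A`. -/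
theorem card_eq_ker_mul_commutator (A : Subgroup P) [hA : A.Normal]
    (hab : ∀ a ∈ A, ∀ b ∈ A, a * b = b * a) (hp : A.index.Prime) (t : P) (ht : t ∉ A) :
    Nat.card A = Nat.card (commHom A hab t).ker * Nat.card (commutator P) := by
  rw [← range_commHom_eq A hab hp t ht, ← Subgroup.index_ker, Subgroup.card_mul_index]

/-- `|A| = |Z(P)| · |P'|` for `P` non-abelian with `A` abelian normal of prime index. -/
theorem card_eq_center_mul_commutator (A : Subgroup P) [hA : A.Normal]
    (hab : ∀ a ∈ A, ∀ b ∈ A, a * b = b * a) (hp : A.index.Prime)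
    (hne : commutator P ≠ ⊥) :
    Nat.card A = Nat.card (Subgroup.center P) * Nat.card (commutator P) := by
  obtain ⟨t, ht⟩ : ∃ t, t ∉ A := by
    by_contra h
    push Not at h
    have : A = ⊤ := eq_top_iff.mpr fun x _ => h x
    rw [this, Subgroup.index_top] at hp
    exact Nat.not_prime_one hp
  have hgen : ∀ s, s ∉ A → ∀ z, (∀ a ∈ A, z * a = a * z) → z * s = s * z →
      z ∈ Subgroup.center P := by
    intro s hs z hz1 hz2
    have : Subgroup.centralizer {z} = ⊤ := by
      have hle : A ≤ Subgroup.centralizer {z} := fun a ha =>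
        Subgroup.mem_centralizer_singleton_iff.mpr (hz1 a ha).symm
      have hsm : s ∈ Subgroup.centralizer {z} := Subgroup.mem_centralizer_singleton_iff.mpr hz2.symm
      rcases hp.eq_one_or_self_of_dvd _ (Subgroup.index_dvd_of_le hle) with h | h
      · exact Subgroup.index_eq_one.mp h
      · exfalso
        have := Subgroup.relIndex_mul_index hle
        rw [h] at this
        have h1 : A.relIndex (Subgroup.centralizer {z}) = 1 :=
          Nat.eq_of_mul_eq_mul_right hp.pos (this.trans (one_mul _).symm)
        exact hs (Subgroup.relIndex_eq_one.mp h1 hsm)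
    rw [Subgroup.mem_center_iff]
    intro g
    have hg : g ∈ Subgroup.centralizer {z} := by rw [this]; trivial
    exact Subgroup.mem_centralizer_singleton_iff.mp hg
  have hZA : Subgroup.center P ≤ A := by
    intro z hz
    by_contra hzA
    apply hne
    rw [← range_commHom_eq A hab hp z hzA, eq_bot_iff]
    rintro _ ⟨a, rfl⟩
    rw [commHom_apply, Subgroup.mem_bot, (Subgroup.mem_center_iff.mp hz _).symm]
    simp
  have hker : (commHom A hab t).ker.map A.subtype = Subgroup.center P := by
    ext z
    constructor
    · rintro ⟨a, ha, rfl⟩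
      refine hgen t ht _ (fun b hb => hab _ a.2 _ hb) ?_
      have : t * (a : P) * t⁻¹ * (a : P)⁻¹ = 1 := ha
      rw [mul_inv_eq_one, mul_inv_eq_iff_eq_mul] at this
      exact this.symm
    · intro hz
      refine ⟨⟨z, hZA hz⟩, ?_, rfl⟩
      rw [SetLike.mem_coe, MonoidHom.mem_ker, commHom_apply]
      simp [Subgroup.mem_center_iff.mp hz t]
  rw [card_eq_ker_mul_commutator A hab hp t ht, ← hker, Subgroup.card_subtype]

end Cfsg.Agent.Lib.BlockAux
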