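import Cfsg.Agent.Lib.BlockAux.AbelianMax
import Mathlib.GroupTheory.Sylow
import Mathlib.GroupTheory.IndexNormal
import Mathlib.GroupTheory.SpecificGroups.Cyclic

set_option autoImplicit false

namespace Cfsg.Agent.Lib.BlockAux

variable {P : Type*} [Group P] [Finite P] {p : ℕ} [Fact p.Prime]

/-- A group of order `p^4` has an abelian normal subgroup of index `p`. -/
theorem exists_abelian_maximal_of_card_pow_four (hP : Nat.card P = p ^ 4) :
    ∃ A : Subgroup P, A.Normal ∧ (∀ a ∈ A, ∀ b ∈ A, a * b = b * a) ∧ A.index = p := by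
  have hp : p.Prime := Fact.out
  have hPg : IsPGroup p P := IsPGroup.of_card hP
  suffices h : ∃ A : Subgroup P, (∀ a ∈ A, ∀ b ∈ A, a * b = b * a) ∧ p ^ 3 ≤ Nat.card A by
    obtain ⟨A, hab, hcard⟩ := h
    -- take a subgroup of order exactly p^3
    obtain ⟨k, hk⟩ := IsPGroup.iff_card.mp (hPg.to_subgroup A)
    have h3 : p ^ 3 ∣ Nat.card A := by
      rw [hk]; exact pow_dvd_pow p ((Nat.pow_le_pow_iff_right hp.one_lt).mp (hk ▸ hcard))
    obtain ⟨B, hB⟩ := Sylow.exists_subgroup_card_pow_prime p h3
    have hBc : Nat.card (B.map A.subtype) = p ^ 3 := by rw [Subgroup.card_subtype, hB]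
    have hidx : (B.map A.subtype).index = p := by
      have := Subgroup.card_mul_index (B.map A.subtype)
      rw [hBc, hP, pow_succ p 3] at this
      exact Nat.eq_of_mul_eq_mul_left (pow_pos hp.pos 3) this
    refine ⟨B.map A.subtype, Subgroup.normal_of_index_eq_minFac_card ?_, ?_, hidx⟩
    · rw [hidx, hP, Nat.pow_minFac (by norm_num), hp.minFac_eq]
    · intro a ha b hb
      exact hab a (Subgroup.map_subtype_le B ha) b (Subgroup.map_subtype_le B hb)
  -- abelian subgroups containing centre and another element
  haveI : Nontrivial P := Finite.one_lt_card_iff_nontrivial.mp (by rw [hP]; exact Nat.one_lt_pow (by norm_num) hp.one_lt)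
  have key : ∀ x : P, x ∉ Subgroup.center P →
      p * Nat.card (Subgroup.center P) ≤ Nat.card ↥(Subgroup.center P ⊔ Subgroup.zpowers x) ∧
      ∀ a ∈ Subgroup.center P ⊔ Subgroup.zpowers x,
        ∀ b ∈ Subgroup.center P ⊔ Subgroup.zpowers x, a * b = b * a := by
    intro x hx
    refine ⟨?_, ?_⟩
    · have hlt : Subgroup.center P < Subgroup.center P ⊔ Subgroup.zpowers x :=
        lt_of_le_of_ne le_sup_left fun e =>
          hx (e ▸ Subgroup.mem_sup_right (Subgroup.mem_zpowers x))
      obtain ⟨i, hi⟩ := IsPGroup.iff_card.mp (hPg.to_subgroup (Subgroup.center P))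
      obtain ⟨j, hj⟩ := IsPGroup.iff_card.mp
        (hPg.to_subgroup (Subgroup.center P ⊔ Subgroup.zpowers x))
      have hle := Subgroup.card_le_of_le hlt.le
      have hne : Nat.card (Subgroup.center P) ≠ Nat.card ↥(Subgroup.center P ⊔ Subgroup.zpowers x) :=
        fun e => hlt.ne (Subgroup.eq_of_le_of_card_ge hlt.le e.ge)
      rw [hi, hj] at hle hne ⊢
      rw [← pow_succ']
      apply Nat.pow_le_pow_right hp.pos
      have := (Nat.pow_le_pow_iff_right hp.one_lt).mp hle
      rcases this.eq_or_lt with h | h
      · exact absurd (by rw [h]) hne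
      · exact h
    · have h1 : Subgroup.center P ⊔ Subgroup.zpowers x ≤
          Subgroup.centralizer ((Subgroup.center P ⊔ Subgroup.zpowers x : Subgroup P) : Set P) := by
        refine sup_le ?_ ?_
        · intro z hz
          rw [Subgroup.mem_centralizer_iff]
          intro w _
          exact Subgroup.mem_center_iff.mp hz w
        · rw [Subgroup.zpowers_le, Subgroup.mem_centralizer_iff]
          intro w hw
          have h2 : Subgroup.center P ⊔ Subgroup.zpowers x ≤ Subgroup.centralizer {x} := by
            refine sup_le (fun z hz => Subgroup.mem_centralizer_singleton_iff.mpr ?_) ?_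
            · exact (Subgroup.mem_center_iff.mp hz x).symm
            · rw [Subgroup.zpowers_le]; exact Subgroup.mem_centralizer_singleton_iff.mpr rfl
          exact Subgroup.mem_centralizer_singleton_iff.mp (h2 hw)
      intro a ha b hb
      exact Subgroup.mem_centralizer_iff.mp (h1 hb) a ha
  obtain ⟨i, hi⟩ := IsPGroup.iff_card.mp (hPg.to_subgroup (Subgroup.center P))
  have hi0 : i ≠ 0 := by
    intro h
    have : Nontrivial (Subgroup.center P) := hPg.center_nontrivial
    have h1 := Finite.one_lt_card_iff_nontrivial.mpr this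
    rw [hi, h, pow_zero] at h1
    exact lt_irrefl _ h1
  by_cases htop : Subgroup.center P = ⊤
  · refine ⟨⊤, fun a _ b _ => ?_, ?_⟩
    · exact (Subgroup.mem_center_iff.mp (htop ▸ Subgroup.mem_top b) a)
    · rw [Subgroup.card_top, hP]; exact Nat.pow_le_pow_right hp.pos (by norm_num)
  by_cases hi2 : 2 ≤ i
  · obtain ⟨x, hx⟩ : ∃ x, x ∉ Subgroup.center P := by
      by_contra h; push Not at h; exact htop (eq_top_iff.mpr fun x _ => h x)
    refine ⟨_, (key x hx).2, le_trans ?_ (key x hx).1⟩
    rw [hi, ← pow_succ']
    exact Nat.pow_le_pow_right hp.pos (by omega)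
  -- the centre has order p; use an element of the second centre
  have hi1 : i = 1 := by omega
  haveI : Nontrivial (P ⧸ Subgroup.center P) := by
    rw [← Finite.one_lt_card_iff_nontrivial, ← Subgroup.index_eq_card]
    exact (Subgroup.one_lt_index_of_ne_top htop)
  have hQ : IsPGroup p (P ⧸ Subgroup.center P) := hPg.to_quotient _
  haveI := hQ.center_nontrivial
  obtain ⟨⟨y, hy⟩, hy1⟩ := exists_ne (1 : Subgroup.center (P ⧸ Subgroup.center P))
  obtain ⟨x, rfl⟩ := QuotientGroup.mk_surjective y
  have hx : x ∉ Subgroup.center P := by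
    intro h; apply hy1
    exact Subtype.ext ((QuotientGroup.eq_one_iff x).mpr h)
  have hcomm : ∀ a : P, x * a * x⁻¹ * a⁻¹ ∈ Subgroup.center P := by
    intro a
    rw [← QuotientGroup.eq_one_iff]
    have := Subgroup.mem_center_iff.mp hy (a : P ⧸ Subgroup.center P)
    simp [← this]
  let f : P →* P :=
    { toFun := fun a => x * a * x⁻¹ * a⁻¹
      map_one' := by simp
      map_mul' := fun a b => by
        have h2 := Subgroup.mem_center_iff.mp (hcomm b) (a⁻¹)
        calc x * (a * b) * x⁻¹ * (a * b)⁻¹
            = x * a * x⁻¹ * ((x * b * x⁻¹ * b⁻¹) * a⁻¹) := by simp [mul_assoc]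
          _ = x * a * x⁻¹ * (a⁻¹ * (x * b * x⁻¹ * b⁻¹)) := by rw [h2]
          _ = _ := by simp [mul_assoc] }
  have hr : f.range ≤ Subgroup.center P := by
    rintro _ ⟨a, rfl⟩; exact hcomm a
  have hker : f.ker.index ≤ p := by
    rw [Subgroup.index_ker]
    exact (Subgroup.card_le_of_le hr).trans (by rw [hi, hi1, pow_one])
  refine ⟨f.ker, ?_, ?_⟩
  · -- the kernel is abelian, having a centre of index at most p
    have hle : (Subgroup.center P ⊔ Subgroup.zpowers x).subgroupOf f.ker ≤
        Subgroup.center f.ker := by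
      intro z hz
      rw [Subgroup.mem_center_iff]
      intro w
      apply Subtype.ext
      have hwx : (w : P) ∈ Subgroup.centralizer {x} := by
        rw [Subgroup.mem_centralizer_singleton_iff]
        have : x * (w : P) * x⁻¹ * (w : P)⁻¹ = 1 := w.2
        rw [mul_inv_eq_one, mul_inv_eq_iff_eq_mul] at this
        exact this.symm
      have h2 : Subgroup.center P ⊔ Subgroup.zpowers x ≤ Subgroup.centralizer {(w : P)} := by
        refine sup_le (fun c hc => Subgroup.mem_centralizer_singleton_iff.mpr ?_) ?_
        · exact (Subgroup.mem_center_iff.mp hc w).symm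
        · rw [Subgroup.zpowers_le]
          exact Subgroup.mem_centralizer_singleton_iff.mpr
            (Subgroup.mem_centralizer_singleton_iff.mp hwx).symm
      exact (Subgroup.mem_centralizer_singleton_iff.mp (h2 hz)).symm
    have hle' : Subgroup.center P ⊔ Subgroup.zpowers x ≤ f.ker := by
      refine sup_le (fun c hc => ?_) ?_
      · show x * c * x⁻¹ * c⁻¹ = 1
        rw [Subgroup.mem_center_iff.mp hc x]; simp
      · rw [Subgroup.zpowers_le]; show x * x * x⁻¹ * x⁻¹ = 1; simp
    have hcard : p ^ 2 ≤ Nat.card (Subgroup.center f.ker) := by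
      refine le_trans ?_ (Subgroup.card_le_of_le hle)
      rw [Nat.card_congr (Subgroup.subgroupOfEquivOfLe hle').toEquiv]
      refine le_trans ?_ (key x hx).1
      rw [hi, hi1, pow_one, sq]
    intro a ha b hb
    suffices Subgroup.center f.ker = ⊤ by
      have := (Subgroup.mem_center_iff.mp (this ▸ Subgroup.mem_top (⟨b, hb⟩ : f.ker))) ⟨a, ha⟩
      exact congrArg Subtype.val this
    by_contra hcen
    obtain ⟨m, hm⟩ := (hPg.to_subgroup f.ker).index (Subgroup.center f.ker)
    have hm1 : 1 < (Subgroup.center f.ker).index := Subgroup.one_lt_index_of_ne_top hcen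
    have hk : Nat.card f.ker ≤ p ^ 3 := by
      have h1 := Subgroup.card_mul_index f.ker
      have h2 : f.ker.index ≠ 1 := by
        intro h
        rw [Subgroup.index_eq_one] at h
        apply hx
        rw [Subgroup.mem_center_iff]
        intro g
        have : g ∈ f.ker := h ▸ Subgroup.mem_top g
        have : x * g * x⁻¹ * g⁻¹ = 1 := this
        rw [mul_inv_eq_one, mul_inv_eq_iff_eq_mul] at this
        exact this.symm
      obtain ⟨e, he⟩ := hPg.index f.ker
      have : e ≠ 0 := fun h => h2 (by rw [he, h, pow_zero])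
      rw [hP, he] at h1
      have hpe : p ≤ p ^ e := Nat.le_self_pow this p
      by_contra hc
      push Not at hc
      have : p ^ 3 * p < p ^ 4 := by
        calc p ^ 3 * p < Nat.card f.ker * p := Nat.mul_lt_mul_of_pos_right hc hp.pos
          _ ≤ Nat.card f.ker * p ^ e := Nat.mul_le_mul_left _ hpe
          _ = p ^ 4 := h1
      rw [← pow_succ] at this; exact lt_irrefl _ this
    have h3 := Subgroup.card_mul_index (Subgroup.center f.ker)
    have hm2 : m = 1 := by
      have h4 : p ^ 2 * p ^ m ≤ p ^ 3 := by
        rw [← hm]; exact (Nat.mul_le_mul_right _ hcard).trans (h3.le.trans hk)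
      rw [← pow_add, Nat.pow_le_pow_iff_right hp.one_lt] at h4
      have : m ≠ 0 := fun h => hm1.ne' (by rw [hm, h, pow_zero])
      omega
    haveI : IsCyclic (f.ker ⧸ Subgroup.center f.ker) :=
      isCyclic_of_prime_card (p := p) (by rw [← Subgroup.index_eq_card, hm, hm2, pow_one])
    apply hcen
    rw [eq_top_iff]
    intro g _
    rw [Subgroup.mem_center_iff]
    intro h
    exact commutative_of_cyclic_center_quotient (QuotientGroup.mk' (Subgroup.center f.ker))
      (by simp) h g
  · have h1 := Subgroup.card_mul_index f.ker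
    have h2 : p ^ 3 * p ≤ Nat.card f.ker * p := by
      rw [← pow_succ, ← hP, ← h1]; exact Nat.mul_le_mul_left _ hker
    exact Nat.le_of_mul_le_mul_right h2 hp.pos

/-- A normal subgroup of order at most `p` of a finite `p`-group is central. -/
theorem le_center_of_card_le_prime (hPg : IsPGroup p P) (N : Subgroup P) [N.Normal]
    (hN : Nat.card N ≤ p) : N ≤ Subgroup.center P := by
  have hp : p.Prime := Fact.out
  obtain ⟨i, hi⟩ := IsPGroup.iff_card.mp (hPg.to_subgroup N)
  have hi1 : i ≤ 1 := by
    rw [hi] at hN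
    exact (Nat.pow_le_pow_iff_right hp.one_lt).mp (hN.trans (pow_one p).ge)
  rcases Nat.le_one_iff_eq_zero_or_eq_one.mp hi1 with rfl | rfl
  · rw [pow_zero, Subgroup.card_eq_one] at hi
    rw [hi]; exact bot_le
  rw [pow_one] at hi
  haveI : IsCyclic N := isCyclic_of_prime_card hi
  obtain ⟨j, hj⟩ := IsPGroup.iff_card.mp
    (hPg.of_surjective _ (MulAut.conjNormal (H := N) : P →* MulAut N).rangeRestrict_surjective)
  have hdvd := Subgroup.card_subgroup_dvd_card (MulAut.conjNormal (H := N) : P →* MulAut N).range
  rw [IsCyclic.card_mulAut, hi, Nat.totient_prime hp, hj] at hdvd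
  have hj0 : j = 0 := by
    by_contra h
    have := Nat.le_of_dvd (by have := hp.one_lt; omega) hdvd
    have := Nat.le_self_pow h p
    have := hp.pos
    omega
  rw [hj0, pow_zero, Subgroup.card_eq_one, MonoidHom.range_eq_bot_iff] at hj
  intro n hn
  rw [Subgroup.mem_center_iff]
  intro g
  have := congrArg (fun f : P →* MulAut N => ((f g ⟨n, hn⟩ : N) : P)) hj
  simp [mul_inv_eq_iff_eq_mul] at this
  exact this

theorem card_center_mul_commutator_of_card_pow_four (hP : Nat.card P = p ^ 4)
    (hne : commutator P ≠ ⊥) :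
    Nat.card (Subgroup.center P) * Nat.card (commutator P) = p ^ 3 := by
  have hp : p.Prime := Fact.out
  obtain ⟨A, hA, hab, hidx⟩ := exists_abelian_maximal_of_card_pow_four hP
  haveI := hA
  rw [← card_eq_center_mul_commutator A hab (hidx ▸ hp) hne]
  have := Subgroup.card_mul_index A
  rw [hidx, hP, pow_succ] at this
  exact Nat.eq_of_mul_eq_mul_right hp.pos this

end Cfsg.Agent.Lib.BlockAux
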